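import Groth.Agent.Neron.K531.Defs
import Groth.Agent.Ega3B.SerreTwist
import Groth.Agent.Sga5.AmpleFib
import Groth.Agent.Ega3B.PullTensor
import Groth.Agent.Ega2.TensMon
import Groth.Agent.Fga.EulerIso
import Groth.Agent.Fdesc.StructMod
import Groth.Agent.S0002

/-!
# A twist with positive Euler characteristic on all components (node DV5 of S15952)

`exists_twist`: `X` closed in `P^n_L`, a finite disjoint union of open pieces `D a` with a rational point; then some
invertible module `N` on `X` has `h⁰ - h¹ > 0` on all `D a`.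
-/

set_option autoImplicit false

universe u

open CategoryTheory CategoryTheory.Limits AlgebraicGeometry TopologicalSpace Opposite
open Groth.Agent K531.Defs

namespace K449.Twist

section comps

variable {L : Type u} [Field L] {X : Scheme.{u}} {f : X ⟶ Spec (CommRingCat.of L)} (h : Comps f)

/-- The pieces are closed. -/
theorem isClosed_range (a : h.ι) : IsClosed (Set.range (h.j a)) := by
  have h1 : (Set.range (h.j a))ᶜ = ⋃ b : {b : h.ι // b ≠ a}, Set.range (h.j b.1) := by
    ext x
    simp only [Set.mem_compl_iff, Set.mem_iUnion]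
    constructor
    · intro hx
      obtain ⟨b, hb⟩ := h.cover x
      refine ⟨⟨b, ?_⟩, hb⟩
      rintro rfl
      exact hx hb
    · rintro ⟨b, hb⟩ hx
      exact Set.disjoint_left.1 (h.disjoint b.1 a b.2) hb hx
  rw [← isOpen_compl_iff, h1]
  refine isOpen_iUnion fun b => ?_
  have := h.isOpenImmersion b.1
  exact (h.j b.1).isOpenEmbedding.isOpen_range

theorem isClosedImmersion_j (a : h.ι) : IsClosedImmersion (h.j a) := by
  have := h.isOpenImmersion a
  exact IsClosedImmersion.of_isPreimmersion (h.j a) (isClosed_range h a)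

theorem isProper_j [IsProper f] (a : h.ι) : IsProper (h.j a ≫ f) := by
  have := isClosedImmersion_j h a
  infer_instance

theorem nonempty_D (a : h.ι) : Nonempty (h.D a) :=
  ⟨h.pt a (IsLocalRing.closedPoint L)⟩

end comps

/-- The Euler characteristic of a module with `H¹ = 0` and `H⁰ ≠ 0` is positive. -/
theorem eulerCharLE_pos (L : Type u) [Field L] (D : Scheme.{u}) [D.Over (Spec (CommRingCat.of L))]
    [IsProper (D ↘ Spec (CommRingCat.of L))] {M : D.Modules} (hM : Coh.IsCoh M)
    (h0 : Nontrivial (Coh.HH D M 0)) (h1 : Subsingleton (Coh.HH D M 1)) :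
    0 < FGA.eulerCharLE L D M 1 := by
  have hfin : Module.Finite L (Coh.HH D M 0) := S0002.result L D M hM 0
  have hpos : 0 < Module.finrank L (Coh.HH D M 0) := Module.finrank_pos
  have h2 : Module.finrank L (Coh.HH D M 1) = 0 := Module.finrank_zero_of_subsingleton
  rw [FGA.eulerCharLE, Finset.sum_range_succ, Finset.sum_range_one, h2]
  simpa using hpos

/-- (DV5) -/
theorem exists_twist {L : Type u} [Field L] {X : Scheme.{u}} (f : X ⟶ Spec (CommRingCat.of L)) [IsProper f] (h : Comps f)
    (hdim : ∀ W ∈ irreducibleComponents (X : Type u), topologicalKrullDim W = 1) {n : ℕ}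
    (i : X ⟶ CohB1.ProjSpaceOver n (Spec (CommRingCat.of L))) [IsClosedImmersion i]
    (hi : i ≫ CohB1.ProjSpaceOver.toBase n _ = f) :
    ∃ (N : X.Modules) (_ : PicF.IsInvertible N), ∀ a,
      letI : (h.D a).Over (Spec (CommRingCat.of L)) := ⟨h.j a ≫ f⟩
      0 < FGA.eulerCharLE L (h.D a) ((Scheme.Modules.pullback (h.j a)).obj N) 1 := by
  have hA : CohB1.IsAmple (Ega3B.ProjFrame.lineOne n i) := Ega3B.SerreTwist.isAmple_lineOne n i
  have key : ∀ a, ∃ n₀ : ℕ, ∀ m, n₀ ≤ m →
      letI : (h.D a).Over (Spec (CommRingCat.of L)) := ⟨h.j a ≫ f⟩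
      0 < FGA.eulerCharLE L (h.D a)
        ((Scheme.Modules.pullback (h.j a)).obj (CohB1.tensorPow (Ega3B.ProjFrame.lineOne n i) m)) 1 := by
    intro a
    have hj := isClosedImmersion_j h a
    have hp := isProper_j h a
    have hne := nonempty_D h a
    let _ : (h.D a).Over (Spec (CommRingCat.of L)) := ⟨h.j a ≫ f⟩
    have hp' : IsProper (h.D a ↘ Spec (CommRingCat.of L)) := hp
    have hln : IsLocallyNoetherian (h.D a) := LocallyOfFiniteType.isLocallyNoetherian (h.j a ≫ f)
    have hAa : CohB1.IsAmple ((Scheme.Modules.pullback (h.j a)).obj (Ega3B.ProjFrame.lineOne n i)) :=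
      Sga5.AmpleFib.isAmple_pullback (h.j a) hA
    have hco : Coh.IsCoh (Coh.structureModule (h.D a)) := Fdesc.StructMod.isCoh_structureModule _
    have hnz : ¬ IsZero (Coh.structureModule (h.D a)) := by
      intro hz
      have h1 := Ega3B.SerreTwist.subsingleton_sections_of_isZero hz ⊤
      have h2 : Subsingleton Γ(h.D a, ⊤) := h1
      obtain ⟨x⟩ := hne
      have h3 : Subsingleton ((h.D a).presheaf.stalk x) := by
        have h4 : (1 : Γ(h.D a, ⊤)) = 0 := Subsingleton.elim _ _
        have h5 := congrArg ((h.D a).presheaf.germ ⊤ x trivial) h4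
        rw [map_one, map_zero] at h5
        exact subsingleton_of_zero_eq_one h5.symm
      exact not_subsingleton _ h3
    obtain ⟨n₀, hn₀⟩ := Ega3B.SerreTwist.exists_serre_nontrivial (h.j a ≫ f) hAa hco hnz
    refine ⟨n₀, fun m hm => ?_⟩
    obtain ⟨hv, -, hn0, -⟩ := hn₀ m hm
    obtain ⟨e⟩ := Ega3B.PullTensor.nonempty_pullPowIso (h.j a) hA.1 m
    have e' := e ≪≫ (Ega2.Tens.lunit _).symm
    have hcM : Coh.IsCoh ((Scheme.Modules.pullback (h.j a)).obj (CohB1.tensorPow (Ega3B.ProjFrame.lineOne n i) m)) :=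
      CohqB.LocalQC.isCoh_of_iso e'.symm
        (Ega3B.CohTensor.isCoh_tensor hco (Fdesc.LocGen.isInvertible_tensorPow hAa.1 m))
    refine eulerCharLE_pos L (h.D a) hcM ?_ ?_
    · exact (Fga.EulerIso.HHequiv L e' 0).toEquiv.nontrivial
    · have := hv 1 one_pos
      exact (Fga.EulerIso.HHequiv L e' 1).toEquiv.subsingleton
  choose n₀ hn₀ using key
  have := h.finite
  obtain ⟨M, hM⟩ := (Set.finite_range n₀).bddAbove
  exact ⟨_, Fdesc.LocGen.isInvertible_tensorPow hA.1 M, fun a => hn₀ a M (hM ⟨a, rfl⟩)⟩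

end K449.Twist
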