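import Groth.Prelude.Def_Red
import Groth.Agent.Neron.K491.PDefs
import Groth.Agent.Models.H125.GlobBC
import Mathlib.RingTheory.TensorProduct.IsBaseChangeFree

/-!
# Additive coordinates descend along a finite field extension (node ATD of S17691)

`exists_unique_exp`: expansion of a function on `T_E` in a basis of `E/K`; `isAdd_coeff`: the coefficients of an
additive function are additive; `vec_descend`: additive coordinates of `S_E` give additive coordinates of `S`.
-/

set_option autoImplicit false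
universe u

open CategoryTheory CategoryTheory.Limits AlgebraicGeometry MonObj MonoidalCategory CartesianMonoidalCategory
open scoped TensorProduct

namespace K449.AddDesc

open K491.PDefs Groth.Agent

variable {K E : Type u} [Field K] [Field E] [Algebra K E]

variable (K E) in
/-- `Spec E ⟶ Spec K`. -/
noncomputable abbrev sp : Spec (CommRingCat.of E) ⟶ Spec (CommRingCat.of K) :=
  Spec.map (CommRingCat.ofHom (algebraMap K E))

variable (E) in
/-- Pull-back of functions to `T_E`. -/
noncomputable def pl (T : Over (Spec (CommRingCat.of K))) : Γ(T.left, ⊤) →+* Γ((Red.bc (sp K E) T).left, ⊤) :=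
  (pullback.fst T.hom (sp K E)).appTop.hom

theorem pl_str (T : Over (Spec (CommRingCat.of K))) [QuasiCompact T.hom] [QuasiSeparated T.hom] (c : K) :
    pl E T (str K T c) = str E (Red.bc (sp K E) T) (algebraMap K E c) :=
  congr($((Models.H125.GlobBC.isPushout_top T.hom E).w).hom c)

theorem exists_unique_exp {J : Type*} [Fintype J] (b : Module.Basis J K E) (T : Over (Spec (CommRingCat.of K)))
    [QuasiCompact T.hom] [QuasiSeparated T.hom] (z : Γ((Red.bc (sp K E) T).left, ⊤)) :
    ∃! c : J → Γ(T.left, ⊤), z = ∑ i, str E (Red.bc (sp K E) T) (b i) * pl E T (c i) := by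
  let _ : Algebra K Γ(T.left, ⊤) := (str K T).toAlgebra
  let _ : Algebra Γ(T.left, ⊤) Γ((Red.bc (sp K E) T).left, ⊤) := (pl E T).toAlgebra
  let _ : Algebra E Γ((Red.bc (sp K E) T).left, ⊤) := (str E (Red.bc (sp K E) T)).toAlgebra
  let _ : Algebra K Γ((Red.bc (sp K E) T).left, ⊤) := ((pl E T).comp (str K T)).toAlgebra
  have : IsScalarTower K Γ(T.left, ⊤) Γ((Red.bc (sp K E) T).left, ⊤) := .of_algebraMap_eq fun _ => rfl
  have : IsScalarTower K E Γ((Red.bc (sp K E) T).left, ⊤) := .of_algebraMap_eq fun c => pl_str T c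
  have h : Algebra.IsPushout K Γ(T.left, ⊤) E Γ((Red.bc (sp K E) T).left, ⊤) :=
    CommRingCat.isPushout_iff_isPushout.1 (Models.H125.GlobBC.isPushout_top T.hom E)
  have hβ : ∀ i, h.out.basis b i = str E (Red.bc (sp K E) T) (b i) := fun i => h.out.basis_apply b i
  have key : ∀ c : J → Γ(T.left, ⊤), ∑ i, c i • h.out.basis b i =
      ∑ i, str E (Red.bc (sp K E) T) (b i) * pl E T (c i) := by
    intro c
    refine Finset.sum_congr rfl fun i _ => ?_
    rw [hβ, mul_comm]
    rfl
  refine ⟨fun i => (h.out.basis b).repr z i, ?_, ?_⟩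
  · change z = _
    rw [← key]
    exact ((h.out.basis b).sum_repr z).symm
  · intro c hc
    rw [← key] at hc
    funext i
    rw [hc, (h.out.basis b).repr_sum_self]

theorem ev_pl {S T : Over (Spec (CommRingCat.of K))} (f : Γ(S.left, ⊤)) (a : T ⟶ S) :
    ev (pl E S f) ((Over.pullback (sp K E)).map a) = pl E T (ev f a) := by
  have h : ((Over.pullback (sp K E)).map a).left ≫ pullback.fst S.hom (sp K E) =
      pullback.fst T.hom (sp K E) ≫ a.left := pullback.lift_fst _ _ _
  have h2 := congr(($h).appTop.hom f)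
  rw [Scheme.Hom.comp_appTop, Scheme.Hom.comp_appTop] at h2
  exact h2

theorem ev_sum {J : Type*} (s : Finset J) {S T : Over (Spec (CommRingCat.of K))} (f : J → Γ(S.left, ⊤)) (a : T ⟶ S) :
    ev (∑ i ∈ s, f i) a = ∑ i ∈ s, ev (f i) a := map_sum _ _ _

theorem ev_exp {J : Type*} [Fintype J] (b : Module.Basis J K E) {S T : Over (Spec (CommRingCat.of K))}
    (c : J → Γ(S.left, ⊤)) (a : T ⟶ S) :
    ev (∑ i, str E (Red.bc (sp K E) S) (b i) * pl E S (c i)) ((Over.pullback (sp K E)).map a) =
      ∑ i, str E (Red.bc (sp K E) T) (b i) * pl E T (ev (c i) a) := by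
  rw [ev_sum]
  refine Finset.sum_congr rfl fun i _ => ?_
  rw [ev_mul, ev_str, ev_pl]

theorem isAdd_coeff {J : Type*} [Fintype J] (b : Module.Basis J K E) (S : Over (Spec (CommRingCat.of K)))
    [GrpObj S] [IsAffine S.left] {c : J → Γ(S.left, ⊤)}
    (hz : IsAdd (Red.bc (sp K E) S) (∑ i, str E (Red.bc (sp K E) S) (b i) * pl E S (c i))) (i : J) :
    IsAdd S (c i) := by
  have haff : IsAffine (S ⊗ S).left := inferInstanceAs (IsAffine (pullback S.hom S.hom))
  have h1 := hz _ ((Over.pullback (sp K E)).map (fst S S)) ((Over.pullback (sp K E)).map (snd S S))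
  have h2 : (Over.pullback (sp K E)).map (fst S S) * (Over.pullback (sp K E)).map (snd S S) =
      (Over.pullback (sp K E)).map (fst S S * snd S S) := (Functor.map_mul _ _ _).symm
  rw [h2, ev_exp, ev_exp, ev_exp, ← Finset.sum_add_distrib] at h1
  have h3 : ∀ j, ev (c j) (fst S S * snd S S) = ev (c j) (fst S S) + ev (c j) (snd S S) := by
    have := (exists_unique_exp b (S ⊗ S) (∑ i, str E (Red.bc (sp K E) (S ⊗ S)) (b i) *
      pl E (S ⊗ S) (ev (c i) (fst S S * snd S S)))).unique (y₁ := fun j => ev (c j) (fst S S * snd S S))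
      (y₂ := fun j => ev (c j) (fst S S) + ev (c j) (snd S S)) rfl (by
        rw [h1]
        refine Finset.sum_congr rfl fun j _ => ?_
        rw [map_add, mul_add])
    exact fun j => congrFun this j
  intro T a a'
  have h4 : a * a' = lift a a' ≫ (fst S S * snd S S) := by
    rw [MonObj.comp_mul, lift_fst, lift_snd]
  rw [h4, ev_comp, h3, ev_add, ← ev_comp, ← ev_comp, lift_fst, lift_snd]

/-- The coefficients of generators generate. -/
theorem gen_coeff {J κ : Type*} [Fintype J] (b : Module.Basis J K E) (S : Over (Spec (CommRingCat.of K)))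
    [IsAffine S.left] (c : κ → J → Γ(S.left, ⊤))
    (hgen : ∀ A : Subring Γ((Red.bc (sp K E) S).left, ⊤), (∀ e, str E (Red.bc (sp K E) S) e ∈ A) →
      (∀ l, ∑ i, str E (Red.bc (sp K E) S) (b i) * pl E S (c l i) ∈ A) → A = ⊤)
    (A : Subring Γ(S.left, ⊤)) (hA : ∀ k, str K S k ∈ A) (hc : ∀ l i, c l i ∈ A) : A = ⊤ := by
  let _ : Algebra K Γ(S.left, ⊤) := (str K S).toAlgebra
  let _ : Algebra E Γ((Red.bc (sp K E) S).left, ⊤) := (str E (Red.bc (sp K E) S)).toAlgebra
  let _ : Algebra K Γ((Red.bc (sp K E) S).left, ⊤) := ((pl E S).comp (str K S)).toAlgebra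
  have : IsScalarTower K E Γ((Red.bc (sp K E) S).left, ⊤) := .of_algebraMap_eq fun c => pl_str S c
  let A' : Subalgebra K Γ(S.left, ⊤) := { A with algebraMap_mem' := hA }
  let g : A' →ₐ[K] Γ((Red.bc (sp K E) S).left, ⊤) :=
    { (pl E S).comp A'.val.toRingHom with commutes' := fun _ => rfl }
  let φ : A' ⊗[K] E →ₐ[K] Γ((Red.bc (sp K E) S).left, ⊤) :=
    Algebra.TensorProduct.lift g (IsScalarTower.toAlgHom K E _) (fun _ _ => Commute.all _ _)
  have hφ : ∀ (a : A') (e : E), φ (a ⊗ₜ e) = pl E S a * str E (Red.bc (sp K E) S) e := fun a e => by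
    rw [Algebra.TensorProduct.lift_tmul]
    rfl
  have htop : φ.toRingHom.range = ⊤ := by
    refine hgen _ (fun e => ⟨1 ⊗ₜ e, ?_⟩) (fun l => ?_)
    · change φ (1 ⊗ₜ e) = _
      rw [hφ]
      simp
    · refine Subring.sum_mem _ fun i _ => ⟨(⟨c l i, hc l i⟩ : A') ⊗ₜ b i, ?_⟩
      change φ _ = _
      rw [hφ, mul_comm]
  obtain ⟨i₀, hi₀⟩ : ∃ i, b.repr 1 i ≠ 0 := by
    by_contra hcon
    push Not at hcon
    have : b.repr (1 : E) = 0 := Finsupp.ext hcon
    exact one_ne_zero ((LinearEquiv.map_eq_zero_iff b.repr).1 this)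
  rw [eq_top_iff]
  intro a _
  have h1 : pl E S a ∈ φ.toRingHom.range := by rw [htop]; trivial
  obtain ⟨t, ht⟩ := h1
  have ht' : pl E S a = ∑ i, str E (Red.bc (sp K E) S) (b i) *
      pl E S (((Algebra.TensorProduct.basis A' b).repr t i : A') : Γ(S.left, ⊤)) := by
    change φ t = pl E S a at ht
    rw [← ht]
    conv_lhs => rw [← (Algebra.TensorProduct.basis A' b).sum_repr t, map_sum]
    refine Finset.sum_congr rfl fun i _ => ?_
    rw [Algebra.TensorProduct.basis_apply, TensorProduct.smul_tmul', smul_eq_mul, _root_.mul_one, hφ, mul_comm]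
  have ht'' : pl E S a = ∑ i, str E (Red.bc (sp K E) S) (b i) * pl E S (str K S (b.repr 1 i) * a) := by
    have h2 : (1 : Γ((Red.bc (sp K E) S).left, ⊤)) = ∑ i, str E (Red.bc (sp K E) S) (b i) *
        pl E S (str K S (b.repr 1 i)) := by
      rw [← map_one (str E (Red.bc (sp K E) S)), ← b.sum_repr 1, map_sum]
      refine Finset.sum_congr rfl fun i _ => ?_
      rw [pl_str, Algebra.smul_def, map_mul, mul_comm, b.sum_repr]
    calc pl E S a = 1 * pl E S a := (_root_.one_mul _).symm
      _ = _ := by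
        rw [h2, Finset.sum_mul]
        refine Finset.sum_congr rfl fun i _ => ?_
        rw [map_mul, _root_.mul_assoc]
  have h3 := congrFun ((exists_unique_exp b S (pl E S a)).unique ht' ht'') i₀
  have h4 : a = str K S (b.repr 1 i₀)⁻¹ * (((Algebra.TensorProduct.basis A' b).repr t i₀ : A') : Γ(S.left, ⊤)) := by
    rw [h3, ← _root_.mul_assoc, ← map_mul, inv_mul_cancel₀ hi₀, map_one, _root_.one_mul]
  rw [h4]
  exact A.mul_mem (hA _) ((Algebra.TensorProduct.basis A' b).repr t i₀).2

/-- (ATD) additive coordinates descend along a finite field extension. -/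
theorem vec_descend (K E : Type u) [Field K] [Field E] [Algebra K E] [FiniteDimensional K E]
    (S : Over (Spec (CommRingCat.of K))) [GrpObj S] [IsAffine S.left] {n : ℕ}
    (x : Fin n → Γ((Red.bc (Spec.map (CommRingCat.ofHom (algebraMap K E))) S).left, ⊤))
    (hx : IsVec E (Red.bc (Spec.map (CommRingCat.ofHom (algebraMap K E))) S) x) :
    ∃ (m : ℕ) (y : Fin m → Γ(S.left, ⊤)), IsVec K S y := by
  let b := Module.finBasis K E
  choose c hc using fun l => (exists_unique_exp b S (x l)).exists
  refine ⟨n * Module.finrank K E, fun j => c (finProdFinEquiv.symm j).1 (finProdFinEquiv.symm j).2, inferInstance,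
    fun j => ?_, fun A hA h => ?_⟩
  · refine isAdd_coeff b S (c := c (finProdFinEquiv.symm j).1) ?_ _
    rw [← hc]
    exact hx.add _
  · refine gen_coeff b S c (fun A' h1 h2 => hx.gen A' h1 fun l => ?_) A hA fun l i => ?_
    · rw [hc]
      exact h2 l
    · have := h (finProdFinEquiv (l, i))
      rwa [Equiv.symm_apply_apply] at this

end K449.AddDesc
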